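import Cfsg.Agent.QuaternionBlock.Setting
import Cfsg.Agent.BlockPairs.Contributions
import Mathlib.LinearAlgebra.Dimension.Constructions

/-!
# The principal 2-block for quaternion Sylow subgroups of order 8 has seven characters

Four members are trivial at the central involution (they are the characters with nonzero value at
an element of order 4), and the three others restrict to the elements of odd order to a basis of
the space spanned by `ψ - ψ x₀` for the first four.
-/

set_option autoImplicit false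
set_option linter.unusedSectionVars false
set_option linter.style.haveILetI false

namespace CfsgLib.QuaternionBlock

open Cfsg CfsgLib.Blocks CfsgLib.PrincipalBlock CfsgLib.Characters
open CfsgLib.BlockPairing (regInner)
open scoped ComplexConjugate

universe u

variable {G : Type u} [Group G] [Fintype G] {M : Ideal AlgInt} [M.IsPrime]
  {S : Sylow 2 G} {u : G}

/-- The inner product on the elements of odd order. -/
theorem regInner_eq_sum (φ ψ : G → ℂ) :
    regInner 2 φ ψ = (Nat.card G : ℂ)⁻¹ *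
      ∑ g ∈ Finset.univ.filter (fun g => Odd (orderOf g)), φ g * conj (ψ g) := by
  rw [regInner, Finset.sum_filter]
  congr 1
  refine Finset.sum_congr rfl fun g _ => ?_
  by_cases hg : 2 ∣ orderOf g
  · rw [if_pos hg, if_neg (Nat.not_odd_iff_even.2 (even_iff_two_dvd.2 hg))]
  · rw [if_neg hg, if_pos (Nat.not_even_iff_odd.1 fun he => hg (even_iff_two_dvd.1 he))]

variable (h : Setting S u)
include h

/-- Inner products of functions with a sign at `u`. -/
theorem inner_signs {φ ψ : G → ℂ} {a b : ℂ} (ha : ∀ g, φ (g * u) = a * φ g)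
    (hb : ∀ g, ψ (g * u) = b * ψ g) (h0 : ∀ g, 4 ∣ orderOf g → φ g = 0) :
    Cfsg.classInner φ ψ = (1 + a * conj b) * regInner 2 φ ψ := by
  rw [regInner_eq_sum, Cfsg.classInner, h.sum_split,
    Finset.sum_eq_zero (s := Finset.univ.filter fun g => 4 ∣ orderOf g)
      (fun g hg => by rw [h0 g (Finset.mem_filter.1 hg).2, zero_mul]), add_zero]
  simp only [ha, hb, map_mul]
  rw [mul_left_comm, add_mul, one_mul, Finset.mul_sum]
  congr 2
  exact Finset.sum_congr rfl fun g _ => by ring

/-- A central involution acts by a sign. -/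
theorem exists_sign (χ : IrrCharacter G) :
    ∃ ε : ℂ, (ε = 1 ∨ ε = -1) ∧ ∀ g, (χ : G → ℂ) (g * u) = ε * (χ : G → ℂ) g := by
  obtain ⟨n, ρ, hρ, hc⟩ := χ.2
  obtain ⟨c, hc'⟩ := central_scalar ρ h.central
  have hg : ∀ g, (χ : G → ℂ) (g * u) = c * (χ : G → ℂ) g := fun g => by
    rw [← hc, Representation.character, map_mul, hc',
      show (LinearMap.id : (Fin n → ℂ) →ₗ[ℂ] (Fin n → ℂ)) = 1 from rfl, mul_smul_comm, mul_one,
      map_smul]
    rfl
  refine ⟨c, ?_, hg⟩
  have h2 := hg u
  have h1 := hg 1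
  rw [one_mul] at h1
  rw [h.u_sq, h1, ← mul_assoc] at h2
  rw [← sq_eq_one_iff, sq]
  exact (mul_right_cancel₀ (irr_one_ne_zero χ.2) (by rw [one_mul, ← h2])).symm

variable (hM : Cfsg.IsPModular 2 M)
include hM

theorem value_section {χ : IrrCharacter G} (hχ : χ ∈ Cfsg.principalBlock M G) {g x₀ : G}
    (hg : 4 ∣ orderOf g) (hx₀ : orderOf x₀ = 4) : (χ : G → ℂ) g = (χ : G → ℂ) x₀ := by
  haveI : Fact (Nat.Prime 2) := ⟨Nat.prime_two⟩
  obtain ⟨hx, hcomm, hodd⟩ := h.twoPart_spec hg
  obtain ⟨K, hKn, hK, -⟩ := h.exists_odd_normal hx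
  haveI := hKn
  let y : Subgroup.centralizer ({twoPart g} : Set G) :=
    ⟨(twoPart g)⁻¹ * g, Subgroup.mem_centralizer_singleton_iff.2 hcomm.symm.eq⟩
  have hKodd : ¬ 2 ∣ Nat.card K := fun hd => by
    obtain ⟨k, hk⟩ := exists_prime_orderOf_dvd_card' 2 hd
    have := (hK k.1).1 k.2
    rw [Subgroup.orderOf_coe, hk] at this
    exact absurd this (by decide)
  have h1 := ZStar.apply_mul_eq_of_mem hM (x := twoPart g) ⟨2, hx⟩ hχ K hKodd (y := y)
    ((hK y).2 (by rwa [← Subgroup.orderOf_coe]))
  rw [show twoPart g * (y : G) = g from mul_inv_cancel_left _ _] at h1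
  rw [h1]
  exact (classFunction_isConj (isClassFunction_of_isIrr χ.2) (h.isConj_four hx₀ hx)).symm

omit hM in
theorem value_four_real (χ : IrrCharacter G) {x : G} (hx : orderOf x = 4) :
    (χ : G → ℂ) x⁻¹ = (χ : G → ℂ) x :=
  (classFunction_isConj (isClassFunction_of_isIrr χ.2)
    (h.isConj_four hx (by rw [orderOf_inv, hx]))).symm

omit hM in
theorem value_four_int (χ : IrrCharacter G) {x : G} (hx : orderOf x = 4) :
    ∃ z : ℤ, (χ : G → ℂ) x = z := by
  obtain ⟨n, ρ, hρ, hc⟩ := χ.2
  obtain ⟨μ, hμ, hj, hinv⟩ := exists_eigenvalues ρ x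
  have hkey : ∀ w : ℂ, w ^ 4 = 1 → ∃ a b : ℤ, w = a + b * Complex.I := by
    intro w hw
    have : (w - 1) * (w + 1) * (w - Complex.I) * (w + Complex.I) = 0 := by
      linear_combination hw + (1 - w ^ 2) * Complex.I_sq
    rcases mul_eq_zero.1 this with h' | h'
    · rcases mul_eq_zero.1 h' with h'' | h''
      · rcases mul_eq_zero.1 h'' with h3 | h3
        · exact ⟨1, 0, by push_cast; linear_combination h3⟩
        · exact ⟨-1, 0, by push_cast; linear_combination h3⟩
      · exact ⟨0, 1, by push_cast; linear_combination h''⟩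
    · exact ⟨0, -1, by push_cast; linear_combination h'⟩
  choose a b hab using fun i => hkey (μ i) (by rw [← hx]; exact hμ i)
  refine ⟨∑ i, a i, ?_⟩
  have hsum : (χ : G → ℂ) x = ((∑ i, a i : ℤ) : ℂ) + ((∑ i, b i : ℤ) : ℂ) * Complex.I := by
    rw [← hc]
    have h1 := hj 1
    rw [pow_one] at h1
    rw [h1, Int.cast_sum, Int.cast_sum, Finset.sum_mul, ← Finset.sum_add_distrib]
    exact Finset.sum_congr rfl fun i _ => by rw [pow_one, hab]
  have him : conj ((χ : G → ℂ) x) = (χ : G → ℂ) x := by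
    rw [← character_inv (isCharacter_of_isIrr χ.2), value_four_real h χ hx]
  rw [hsum, map_add, map_mul, map_intCast, map_intCast, Complex.conj_I] at him
  have h0 : ((∑ i, b i : ℤ) : ℂ) * Complex.I = 0 := by linear_combination -him / 2
  rw [hsum, h0, add_zero]

omit hM in
theorem value_four_faithful {χ : IrrCharacter G} (hχ : ∀ g, (χ : G → ℂ) (g * u) = -(χ : G → ℂ) g)
    {x : G} (hx : orderOf x = 4) : (χ : G → ℂ) x = 0 := by
  have h1 := value_four_real h χ hx
  rw [h.inv_eq hx, hχ] at h1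
  linear_combination -h1 / 2

open Classical in
/-- The characters of the principal block expand the indicator of the section. -/
theorem sum_sq_value {x₀ : G} (hx₀ : orderOf x₀ = 4) :
    ∑ χ : IrrCharacter G, (if χ ∈ Cfsg.principalBlock M G then
      conj ((χ : G → ℂ) x₀) * (χ : G → ℂ) x₀ else 0) = 4 := by
  haveI : Fact (Nat.Prime 2) := ⟨Nat.prime_two⟩
  set B := Cfsg.principalBlock M G
  set ϑ : G → ℂ := fun g => if 4 ∣ orderOf g then 1 else 0 with hϑ
  have hcl : Cfsg.IsClassFunction G ϑ := fun g c => by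
    simp only [hϑ, Small.orderOf_conj_eq]
  set c : IrrCharacter G → ℂ := fun χ => Cfsg.classInner ϑ (χ : G → ℂ) with hc
  have hX : ((Finset.univ.filter fun g : G => 4 ∣ orderOf g).card : ℂ) = (Nat.card G : ℂ) / 4 := by
    rw [eq_div_iff (by norm_num), ← h.card_section]
    push_cast; ring
  have hcval : ∀ χ ∈ B, c χ = conj ((χ : G → ℂ) x₀) / 4 := by
    intro χ hχ
    rw [hc]
    simp only [Cfsg.classInner, hϑ, ite_mul, one_mul, zero_mul]
    rw [← Finset.sum_filter, Finset.sum_congr rfl (g := fun _ => conj ((χ : G → ℂ) x₀))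
      (fun g hg => by rw [value_section h hM hχ (Finset.mem_filter.1 hg).2 hx₀]),
      Finset.sum_const, nsmul_eq_mul, hX]
    field_simp [Characters.natCard_ne_zero]
  set bp : G → ℂ := fun g => ∑ χ, (if χ ∈ B then c χ * (χ : G → ℂ) g else 0) with hbp
  have hbpeq : ∀ g, Cfsg.blockPart B ϑ g = bp g := fun g => by
    rw [Cfsg.blockPart, Blocks.finsum_irr_mem,
      show (Fintype.ofFinite G) = ‹Fintype G› from Subsingleton.elim _ _]
  have hzero : ∀ g, ¬ 4 ∣ orderOf g → bp g = 0 := by
    intro g hg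
    obtain ⟨z, hz, hzo⟩ : ∃ z, Cfsg.IsPPart 2 g z ∧ ¬ 4 ∣ orderOf z := by
      by_cases ho : Odd (orderOf g)
      · exact ⟨1, ⟨g, one_mul g, Commute.one_left g, ⟨0, orderOf_one⟩,
          fun hd => Nat.not_even_iff_odd.2 ho (even_iff_two_dvd.2 hd)⟩,
          by rw [orderOf_one]; norm_num⟩
      · refine ⟨u, ⟨g * u, ?_, ?_, ⟨1, h.order_u⟩, fun hd =>
          Nat.not_even_iff_odd.2 (h.odd_mul_u ho hg) (even_iff_two_dvd.2 hd)⟩,
          by rw [h.order_u]; norm_num⟩
        · rw [← mul_assoc, ← (h.comm g).eq, mul_assoc, h.u_sq, mul_one]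
        · exact ((h.comm g).symm).mul_right (Commute.refl u)
    rw [← hbpeq]
    refine blockPart_eq_zero_of_section hM hcl (x := z) (fun w z' hw hz' => ?_)
      isPBlock_principalBlock hz (IsConj.refl z)
    obtain ⟨y, rfl, hcomm, -, hy⟩ := hw
    refine if_neg fun h4 => hzo ?_
    obtain ⟨a, rfl⟩ := isConj_iff.1 hz'
    rw [← Small.orderOf_conj_eq a z]
    exact (Nat.Coprime.pow_left 2 (Nat.prime_two.coprime_iff_not_dvd.2 hy)
      : Nat.Coprime (2 ^ 2) _).dvd_of_dvd_mul_right
      ((h4.trans hcomm.orderOf_mul_dvd_lcm).trans (Nat.lcm_dvd_mul _ _))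
  set a : ℂ := ∑ χ, (if χ ∈ B then c χ * (χ : G → ℂ) x₀ else 0) with ha
  have hsec : ∀ g, bp g = a * ϑ g := by
    intro g
    by_cases hg : 4 ∣ orderOf g
    · simp only [hϑ, if_pos hg, mul_one, hbp, ha]
      refine Finset.sum_congr rfl fun χ _ => ?_
      by_cases hχ : χ ∈ B
      · rw [if_pos hχ, if_pos hχ, value_section h hM hχ hg hx₀]
      · rw [if_neg hχ, if_neg hχ]
    · rw [hzero g hg]; simp [hϑ, hg]
  have ha1 : a = 1 := by
    have hfun : (∑ χ : IrrCharacter G, (if χ ∈ B then c χ else 0) • (χ : G → ℂ)) = a • ϑ := by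
      funext g
      rw [Finset.sum_apply, Pi.smul_apply, smul_eq_mul, ← hsec g]
      exact Finset.sum_congr rfl fun χ _ => by split_ifs with hh <;> simp
    have h1 := classInner_irr_coeff (fun χ => if χ ∈ B then c χ else 0) (trivChar G)
    rw [hfun, classInner_smul_left, if_pos trivChar_mem, hcval _ trivChar_mem] at h1
    have h2 : Cfsg.classInner ϑ (trivChar G : G → ℂ) = 1 / 4 := by
      have := hcval _ (trivChar_mem (M := M) (G := G))
      simpa [hc] using this
    rw [h2] at h1
    simpa using h1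
  rw [ha] at ha1
  rw [show (4 : ℂ) = 4 * 1 by norm_num, ← ha1, Finset.mul_sum]
  refine Finset.sum_congr rfl fun χ _ => ?_
  by_cases hχ : χ ∈ B
  · rw [if_pos hχ, if_pos hχ, hcval χ hχ]; ring
  · rw [if_neg hχ, if_neg hχ, mul_zero]

/-- A nonprincipal member of the principal block trivial at `u` does not vanish at `x₀`. -/
theorem value_ne_zero {χ : IrrCharacter G} (hχ : χ ∈ Cfsg.principalBlock M G)
    (hu : ∀ g, (χ : G → ℂ) (g * u) = (χ : G → ℂ) g) {x₀ : G} (hx₀ : orderOf x₀ = 4) :
    (χ : G → ℂ) x₀ ≠ 0 := by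
  classical
  haveI : Fact (Nat.Prime 2) := ⟨Nat.prime_two⟩
  intro hz
  have hne : χ ≠ trivChar G := fun e => by rw [e, trivChar_apply] at hz; exact one_ne_zero hz
  have hR : ∑ g ∈ Finset.univ.filter (fun g => Odd (orderOf g)), (χ : G → ℂ) g = 0 := by
    have h1 := inner_signs h (φ := (χ : G → ℂ)) (ψ := (trivChar G : G → ℂ)) (a := 1) (b := 1)
      (fun g => by rw [hu, one_mul]) (fun g => by simp)
      (fun g hg => (value_section h hM hχ hg hx₀).trans hz)
    rw [classInner_irr, if_neg hne, regInner_eq_sum] at h1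
    simpa [Characters.natCard_ne_zero] using h1
  let z : Ctr (localRing M) G := ⟨ofFun fun g => if Odd (orderOf g) then 1 else 0,
    mem_ctr_iff.2 fun g c => by simp [Small.orderOf_conj_eq]⟩
  have h2 := DFunLike.congr_fun (mem_principalBlock_iff.1 hχ) (redCtr M z)
  rw [omegaBar_redCtr, omegaBar_redCtr] at h2
  have e1 : omegaO M χ z = 0 := by
    refine Subtype.ext ?_
    rw [coe_omegaO, omega_apply, ZeroMemClass.coe_zero, div_eq_zero_iff]
    left
    refine Eq.trans ?_ hR
    rw [Finset.sum_filter]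
    refine Finset.sum_congr rfl fun g _ => ?_
    by_cases hg : Odd (orderOf g) <;> simp [z, toC, hg]
  have e2 : omegaO M (trivChar G) z =
      ((Finset.univ.filter fun g : G => Odd (orderOf g)).card : localRing M) := by
    refine Subtype.ext ?_
    rw [coe_omegaO, omega_trivChar]
    rw [show (((Finset.univ.filter fun g : G => Odd (orderOf g)).card : localRing M) : ℂ) =
      ((Finset.univ.filter fun g : G => Odd (orderOf g)).card : ℂ) from rfl,
      Finset.card_filter, Nat.cast_sum]
    refine Finset.sum_congr rfl fun g _ => ?_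
    by_cases hg : Odd (orderOf g) <;> simp [z, toC, hg]
  rw [e1, e2, map_zero, map_natCast, eq_comm, red_natCast_eq_zero_iff hM] at h2
  exact Nat.not_even_iff_odd.2 h.odd_card_regular (even_iff_two_dvd.2 h2)

theorem regInner_sub_const {ψ : IrrCharacter G} (c : ℂ) {φ : IrrCharacter G}
    (hψ : ψ ∈ Cfsg.principalBlock M G) (hφ : φ ∉ Cfsg.principalBlock M G) :
    regInner 2 (fun g => (ψ : G → ℂ) g - c) (φ : G → ℂ) = 0 := by
  haveI : Fact (Nat.Prime 2) := ⟨Nat.prime_two⟩
  have h1 := Contributions.regInner_eq_zero (p := 2) hM (isPBlock_principalBlock (G := G)) hψ hφ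
  have h2 := Contributions.regInner_eq_zero (p := 2) hM (isPBlock_principalBlock (G := G))
    trivChar_mem hφ
  rw [regInner_eq_sum] at h1 h2 ⊢
  simp only [sub_mul, Finset.sum_sub_distrib, mul_sub, ← Finset.mul_sum]
  simp only [trivChar_apply, one_mul] at h2
  rw [h1]
  linear_combination (-c) * h2

/-- The principal block has seven members. -/
theorem card_principalBlock : Nat.card (Cfsg.principalBlock M G) = 7 := by
  classical
  haveI : Fact (Nat.Prime 2) := ⟨Nat.prime_two⟩
  obtain ⟨x₀, hx₀⟩ := h.exists_four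
  choose v hv using fun χ : IrrCharacter G => value_four_int h χ hx₀
  choose ε hε hεmul using exists_sign h
  have hεu : ∀ χ g, ε χ = 1 → (χ : G → ℂ) (g * u) = (χ : G → ℂ) g := fun χ g he => by
    rw [hεmul, he, one_mul]
  have hεf : ∀ χ g, ε χ ≠ 1 → (χ : G → ℂ) (g * u) = -(χ : G → ℂ) g := fun χ g he => by
    rw [hεmul, (hε χ).resolve_left he, neg_one_mul]
  have hε1 : ε (trivChar G) = 1 := by
    have := hεmul (trivChar G) 1
    simpa using this.symm
  have hv1 : v (trivChar G) = 1 := by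
    have := hv (trivChar G)
    rw [trivChar_apply] at this
    exact_mod_cast this.symm
  set B := Finset.univ.filter fun χ : IrrCharacter G => χ ∈ Cfsg.principalBlock M G with hB
  set T := B.filter fun χ => ε χ = 1 with hT
  set F := B.filter fun χ => ¬ ε χ = 1 with hF
  have hmemT : ∀ {χ}, χ ∈ T ↔ χ ∈ Cfsg.principalBlock M G ∧ ε χ = 1 := by simp [hT, hB]
  have hmemF : ∀ {χ}, χ ∈ F ↔ χ ∈ Cfsg.principalBlock M G ∧ ¬ ε χ = 1 := by simp [hF, hB]
  have h1T : trivChar G ∈ T := hmemT.2 ⟨trivChar_mem, hε1⟩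
  have hsum : ∑ χ ∈ T, v χ ^ 2 = 4 := by
    have hsq := sum_sq_value h hM hx₀
    rw [← Finset.sum_filter, ← hB,
      ← Finset.sum_filter_add_sum_filter_not B (fun χ => ε χ = 1), ← hT, ← hF,
      Finset.sum_eq_zero (s := F) (fun χ hχ => by
        rw [value_four_faithful h (fun g => hεf χ g (hmemF.1 hχ).2) hx₀, mul_zero]),
      add_zero] at hsq
    have : ((∑ χ ∈ T, v χ ^ 2 : ℤ) : ℂ) = ((4 : ℤ) : ℂ) := by
      push_cast
      rw [← hsq]
      exact Finset.sum_congr rfl fun χ _ => by rw [hv, map_intCast, sq]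
    exact_mod_cast this
  have hv2 : ∀ χ ∈ T, v χ ^ 2 = 1 := by
    intro χ hχ
    have hne : v χ ≠ 0 := fun h0 =>
      value_ne_zero h hM (hmemT.1 hχ).1 (fun g => hεu χ g (hmemT.1 hχ).2) hx₀ (by
        rw [hv, h0, Int.cast_zero])
    by_cases hχ1 : χ = trivChar G
    · rw [hχ1, hv1, one_pow]
    · have hle : v χ ^ 2 + v (trivChar G) ^ 2 ≤ 4 := by
        rw [← hsum, ← Finset.sum_pair (f := fun i => v i ^ 2) hχ1]
        exact Finset.sum_le_sum_of_subset_of_nonneg
          (Finset.insert_subset_iff.2 ⟨hχ, Finset.singleton_subset_iff.2 h1T⟩)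
          fun i _ _ => sq_nonneg _
      rw [hv1] at hle
      have h1 : -1 ≤ v χ := by nlinarith
      have h2 : v χ ≤ 1 := by nlinarith
      interval_cases (v χ) <;> simp_all
  have hT4 : T.card = 4 := by
    rw [Finset.sum_congr rfl hv2, Finset.sum_const, nsmul_eq_mul, mul_one] at hsum
    exact_mod_cast hsum
  -- vectors on the elements of odd order
  let f : F → ({g : G // Odd (orderOf g)} → ℂ) := fun χ g => (χ.1 : G → ℂ) g
  let q : T.erase (trivChar G) → ({g : G // Odd (orderOf g)} → ℂ) :=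
    fun ψ g => (ψ.1 : G → ℂ) g - (ψ.1 : G → ℂ) x₀
  have hqmem : ∀ ψ : T.erase (trivChar G), ψ.1 ∈ T := fun ψ => Finset.mem_of_mem_erase ψ.2
  have odd_gu : ∀ g : G, Odd (orderOf g) → ¬ Odd (orderOf (g * u)) := fun g hg => (h.mul_u_spec hg).1
  have hspan1 : ∀ χ : F, f χ ∈ Submodule.span ℂ (Set.range q) := by
    intro χ
    have hχ := hmemF.1 χ.2
    set Φ : G → ℂ := fun g => if Odd (orderOf g) then (χ.1 : G → ℂ) g else -(χ.1 : G → ℂ) g
      with hΦ
    have hX0 : ∀ g, 4 ∣ orderOf g → Φ g = 0 := by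
      intro g hg
      have h0 : (χ.1 : G → ℂ) g = 0 := (value_section h hM hχ.1 hg hx₀).trans
        (value_four_faithful h (fun g => hεf _ g hχ.2) hx₀)
      simp [hΦ, h0]
    have hΦu : ∀ g, Φ (g * u) = (1 : ℂ) * Φ g := by
      intro g
      rw [one_mul]
      by_cases hg : Odd (orderOf g)
      · simp [hΦ, hg, odd_gu g hg, hεf _ g hχ.2]
      · by_cases h4 : 4 ∣ orderOf g
        · have h0 := hX0 g h4
          have h00 : (χ.1 : G → ℂ) g = 0 := by simpa [hΦ, hg] using h0
          simp [hΦ, hεf _ g hχ.2, h00]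
        · simp [hΦ, hg, h.odd_mul_u hg h4, hεf _ g hχ.2]
    have hcl : Cfsg.IsClassFunction G Φ := fun g c => by
      simp only [hΦ, Small.orderOf_conj_eq, isClassFunction_of_isIrr χ.1.2 g c]
    have hcoef : ∀ ψ : IrrCharacter G, ψ ∉ T → Cfsg.classInner Φ (ψ : G → ℂ) = 0 := by
      intro ψ hψ
      rw [inner_signs h hΦu (hεmul ψ) hX0]
      by_cases he : ε ψ = 1
      · have hψB : ψ ∉ Cfsg.principalBlock M G := fun hm => hψ (hmemT.2 ⟨hm, he⟩)
        rw [show regInner 2 Φ (ψ : G → ℂ) = regInner 2 (χ.1 : G → ℂ) (ψ : G → ℂ) by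
            rw [regInner_eq_sum, regInner_eq_sum]
            congr 1
            refine Finset.sum_congr rfl fun g hg => ?_
            simp [hΦ, (Finset.mem_filter.1 hg).2],
          Contributions.regInner_eq_zero hM isPBlock_principalBlock hχ.1 hψB, mul_zero]
      · rw [(hε ψ).resolve_left he]; simp
    have hexp : ∀ g, Φ g = ∑ ψ ∈ T, Cfsg.classInner Φ (ψ : G → ℂ) * (ψ : G → ℂ) g := fun g => by
      have := congrFun (classFunction_expansion hcl) g
      rw [Finset.sum_apply] at this
      rw [this]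
      refine (Finset.sum_subset (Finset.subset_univ T) fun ψ _ hψ => ?_).symm
      rw [Pi.smul_apply, smul_eq_mul, hcoef ψ hψ, zero_mul]
    have hrel : f χ = ∑ ψ : T.erase (trivChar G), Cfsg.classInner Φ (ψ.1 : G → ℂ) • q ψ := by
      funext g
      rw [Finset.sum_apply]
      simp only [Pi.smul_apply, smul_eq_mul, q]
      rw [Finset.sum_coe_sort (T.erase (trivChar G))
        (fun ψ => Cfsg.classInner Φ (ψ : G → ℂ) * ((ψ : G → ℂ) (g : G) - (ψ : G → ℂ) x₀))]
      rw [Finset.sum_erase T (by simp)]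
      simp only [mul_sub, Finset.sum_sub_distrib]
      rw [← hexp, ← hexp, hX0 x₀ (by rw [hx₀]), sub_zero]
      simp [f, hΦ, g.2]
    rw [hrel]
    exact Submodule.sum_mem _ fun ψ _ => Submodule.smul_mem _ _ (Submodule.subset_span ⟨ψ, rfl⟩)
  have hspan2 : ∀ ψ : T.erase (trivChar G), q ψ ∈ Submodule.span ℂ (Set.range f) := by
    intro ψ
    have hψ := hmemT.1 (hqmem ψ)
    set Q : G → ℂ := fun g => (ψ.1 : G → ℂ) g - (ψ.1 : G → ℂ) x₀ with hQ
    set Ψ : G → ℂ := fun g => if Odd (orderOf g) then Q g else -Q g with hΨ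
    have hQu : ∀ g, Q (g * u) = Q g := fun g => by simp only [hQ, hεu _ g hψ.2]
    have hX0 : ∀ g, 4 ∣ orderOf g → Ψ g = 0 := by
      intro g hg
      simp [hΨ, hQ, value_section h hM hψ.1 hg hx₀]
    have hΨu : ∀ g, Ψ (g * u) = (-1 : ℂ) * Ψ g := by
      intro g
      by_cases hg : Odd (orderOf g)
      · simp [hΨ, hg, odd_gu g hg, hQu]
      · by_cases h4 : 4 ∣ orderOf g
        · have h0 : Q g = 0 := by simp [hQ, value_section h hM hψ.1 h4 hx₀]
          simp [hΨ, hQu, h0]
        · simp [hΨ, hg, h.odd_mul_u hg h4, hQu]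
    have hcl : Cfsg.IsClassFunction G Ψ := fun g c => by
      simp only [hΨ, hQ, Small.orderOf_conj_eq, isClassFunction_of_isIrr ψ.1.2 g c]
    have hcoef : ∀ φ : IrrCharacter G, φ ∉ F → Cfsg.classInner Ψ (φ : G → ℂ) = 0 := by
      intro φ hφ
      rw [inner_signs h hΨu (hεmul φ) hX0]
      by_cases he : ε φ = 1
      · rw [he]; simp
      · have hφB : φ ∉ Cfsg.principalBlock M G := fun hm => hφ (hmemF.2 ⟨hm, he⟩)
        rw [show regInner 2 Ψ (φ : G → ℂ) = regInner 2 Q (φ : G → ℂ) by
            rw [regInner_eq_sum, regInner_eq_sum]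
            congr 1
            refine Finset.sum_congr rfl fun g hg => ?_
            simp [hΨ, (Finset.mem_filter.1 hg).2],
          regInner_sub_const h hM _ hψ.1 hφB, mul_zero]
    have hrel : q ψ = ∑ φ : F, Cfsg.classInner Ψ (φ.1 : G → ℂ) • f φ := by
      funext g
      rw [Finset.sum_apply]
      simp only [Pi.smul_apply, smul_eq_mul, f]
      rw [Finset.sum_coe_sort F (fun φ => Cfsg.classInner Ψ (φ : G → ℂ) * (φ : G → ℂ) (g : G)),
        show q ψ g = Ψ g by simp [q, hΨ, hQ, g.2]]
      have := congrFun (classFunction_expansion hcl) (g : G)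
      rw [Finset.sum_apply] at this
      rw [this]
      refine (Finset.sum_subset (Finset.subset_univ F) fun φ _ hφ => ?_).symm
      simp [hcoef φ hφ]
    rw [hrel]
    exact Submodule.sum_mem _ fun φ _ => Submodule.smul_mem _ _ (Submodule.subset_span ⟨φ, rfl⟩)
  have hindf : LinearIndependent ℂ f := by
    rw [Fintype.linearIndependent_iff]
    intro c hc i
    have hall : ∀ g : G, ∑ φ : F, c φ * (φ.1 : G → ℂ) g = 0 := by
      intro g
      by_cases hg : Odd (orderOf g)
      · simpa [f] using congrFun hc ⟨g, hg⟩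
      · by_cases h4 : 4 ∣ orderOf g
        · refine Finset.sum_eq_zero fun φ _ => ?_
          rw [value_section h hM (hmemF.1 φ.2).1 h4 hx₀,
            value_four_faithful h (fun g => hεf _ g (hmemF.1 φ.2).2) hx₀, mul_zero]
        · have h1 : ∑ φ : F, c φ * (φ.1 : G → ℂ) (g * u) = 0 := by
            simpa [f] using congrFun hc ⟨g * u, h.odd_mul_u hg h4⟩
          rw [Finset.sum_congr rfl fun φ _ => by rw [hεf _ g (hmemF.1 φ.2).2, mul_neg],
            Finset.sum_neg_distrib, neg_eq_zero] at h1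
          exact h1
    exact Fintype.linearIndependent_iff.1
      ((irr_linearIndependent (G := G)).comp (fun φ : F => φ.1) Subtype.val_injective) c
      (funext fun g => by simpa using hall g) i
  have hindq : LinearIndependent ℂ q := by
    rw [Fintype.linearIndependent_iff]
    intro c hc i
    have hall : ∀ g : G, ∑ ψ : T.erase (trivChar G),
        c ψ * ((ψ.1 : G → ℂ) g - (ψ.1 : G → ℂ) x₀) = 0 := by
      intro g
      by_cases hg : Odd (orderOf g)
      · simpa [q] using congrFun hc ⟨g, hg⟩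
      · by_cases h4 : 4 ∣ orderOf g
        · refine Finset.sum_eq_zero fun ψ _ => ?_
          rw [value_section h hM (hmemT.1 (hqmem ψ)).1 h4 hx₀, sub_self, mul_zero]
        · have h1 : ∑ ψ : T.erase (trivChar G),
              c ψ * ((ψ.1 : G → ℂ) (g * u) - (ψ.1 : G → ℂ) x₀) = 0 := by
            simpa [q] using congrFun hc ⟨g * u, h.odd_mul_u hg h4⟩
          rwa [Finset.sum_congr rfl fun ψ _ => by rw [hεu _ g (hmemT.1 (hqmem ψ)).2]] at h1
    have hfun : (∑ ψ : T.erase (trivChar G), c ψ • (ψ.1 : G → ℂ)) -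
        (∑ ψ : T.erase (trivChar G), c ψ * (ψ.1 : G → ℂ) x₀) • (trivChar G : G → ℂ) = 0 := by
      funext g
      have := hall g
      simp only [mul_sub, Finset.sum_sub_distrib] at this
      simpa using this
    have hne : i.1 ≠ trivChar G := (Finset.mem_erase.1 i.2).1
    have := congrArg (fun θ : G → ℂ => Cfsg.classInner θ (i.1 : G → ℂ)) hfun
    simp only [classInner_sub_left, classInner_sum_left, classInner_smul_left, classInner_irr,
      if_neg (Ne.symm hne), mul_zero, sub_zero, classInner_zero_left] at this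
    rw [Finset.sum_eq_single i (fun b _ hb => by rw [if_neg fun e => hb (Subtype.ext e), mul_zero])
      (fun hb => absurd (Finset.mem_univ i) hb), if_pos rfl, mul_one] at this
    exact this
  have hspaneq : Submodule.span ℂ (Set.range f) = Submodule.span ℂ (Set.range q) := by
    refine le_antisymm (Submodule.span_le.2 ?_) (Submodule.span_le.2 ?_)
    · rintro _ ⟨χ, rfl⟩; exact hspan1 χ
    · rintro _ ⟨ψ, rfl⟩; exact hspan2 ψ
  have hFc : F.card = 3 := by
    have h1 := finrank_span_eq_card hindf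
    rw [hspaneq, finrank_span_eq_card hindq, Fintype.card_coe, Fintype.card_coe,
      Finset.card_erase_of_mem h1T, hT4] at h1
    exact h1.symm
  rw [Nat.card_coe_set_eq, show Cfsg.principalBlock M G = (B : Set (IrrCharacter G)) by
      ext χ; simp [hB], Set.ncard_coe_finset,
    ← Finset.card_filter_add_card_filter_not (s := B) (fun χ => ε χ = 1), ← hT, ← hF, hT4, hFc]

end CfsgLib.QuaternionBlock
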