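import Cfsg.Agent.BrauerSuzuki.Forms
import Cfsg.Agent.Transfer.Frobenius
import Cfsg.Agent.ZStar.Core

/-!
# Groups with quaternion Sylow 2-subgroup of order 8 and trivial odd core: elements and sections

The central involution `u`, the conjugacy class of the elements of order 4, their centralizers and
the three parts of the group: elements of odd order, their translates by `u`, and the section of
the elements of order 4.
-/

set_option autoImplicit false
set_option linter.unusedSectionVars false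
set_option linter.style.haveILetI false

namespace CfsgLib.QuaternionBlock

open Cfsg
open CfsgLib.BrauerSuzuki (NoFour)

universe u

variable {G : Type u} [Group G] [Finite G]

theorem quaternion_facts : ∀ z : QuaternionGroup 2, z ^ 4 = 1 ∧
    (z ^ 2 ≠ 1 → (∃ b, b * z * b⁻¹ = z⁻¹) ∧ z⁻¹ ≠ z) := by
  decide

/-- The standing assumptions. -/
structure Setting (S : Sylow 2 G) (u : G) : Prop where
  noFour : NoFour G
  central : u ∈ Subgroup.center G
  order_u : orderOf u = 2
  iso : Nonempty ((S : Subgroup G) ≃* QuaternionGroup 2)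
  notNilp : ¬ Cfsg.HasNormalPComplement 2 G

theorem exists_setting (S : Sylow 2 G) (e : (S : Subgroup G) ≃* QuaternionGroup 2)
    (hO : ∀ N : Subgroup G, N.Normal → Odd (Nat.card N) → N = ⊥) (hG : (S : Subgroup G) ≠ ⊤) :
    ∃ u : G, Setting S u := by
  haveI : Fact (Nat.Prime 2) := ⟨Nat.prime_two⟩
  have hc := BrauerSuzuki.card_center_eq_two S le_rfl e hO
  obtain ⟨u, hu⟩ := exists_prime_orderOf_dvd_card' 2 (hc ▸ dvd_rfl : 2 ∣ Nat.card (Subgroup.center G))
  refine ⟨u, ⟨BrauerSuzuki.noFour_of_quaternion S e, u.2, by rw [Subgroup.orderOf_coe, hu], ⟨e⟩,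
    fun ⟨P, N, hN, hc⟩ => hG ?_⟩⟩
  have hodd : Odd (Nat.card N) := by
    rw [← hc.index_eq_card]
    exact Nat.not_even_iff_odd.1 fun h => P.not_dvd_index (even_iff_two_dvd.1 h)
  rw [hO N hN hodd, Subgroup.isComplement'_bot_left] at hc
  refine Subgroup.eq_top_of_card_eq _ ?_
  rw [S.card_eq_multiplicity, ← P.card_eq_multiplicity, hc, Subgroup.card_top]

namespace Setting

variable {S : Sylow 2 G} {u : G} (h : Setting S u)
include h

theorem comm (g : G) : Commute g u := Subgroup.mem_center_iff.1 h.central g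

theorem u_sq : u * u = 1 := CfsgLib.Small.mul_self_of_orderOf_two h.order_u

theorem eq_u {t : G} (ht : orderOf t = 2) : t = u :=
  h.noFour t u (by rw [← ht, pow_orderOf_eq_one]) (fun e => by simp [e] at ht)
    (by rw [sq, h.u_sq]) (fun e => by simpa [e] using h.order_u) (h.comm t)

theorem sq_eq {x : G} (hx : orderOf x = 4) : x ^ 2 = u :=
  h.eq_u (by rw [orderOf_pow, hx]; decide)

theorem inv_eq {x : G} (hx : orderOf x = 4) : x⁻¹ = x * u := by
  rw [← h.sq_eq hx]
  refine inv_eq_of_mul_eq_one_right ?_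
  rw [← pow_succ', ← pow_succ', show 2 + 1 + 1 = 4 from rfl, ← hx, pow_orderOf_eq_one]

theorem exists_iso {P : Subgroup G} (hP : IsPGroup 2 P) :
    ∃ f : P →* QuaternionGroup 2, Function.Injective f := by
  obtain ⟨T, hT⟩ := hP.exists_le_sylow
  obtain ⟨e⟩ := h.iso
  exact ⟨((T.equiv S).trans e).toMonoidHom.comp (Subgroup.inclusion hT),
    ((T.equiv S).trans e).injective.comp (Subgroup.inclusion_injective hT)⟩

theorem pow_four {P : Subgroup G} (hP : IsPGroup 2 P) {g : G} (hg : g ∈ P) : g ^ 4 = 1 := by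
  obtain ⟨f, hf⟩ := h.exists_iso hP
  have : (⟨g, hg⟩ : P) ^ 4 = 1 := hf (by rw [map_pow, map_one]; exact (quaternion_facts _).1)
  simpa using congrArg Subtype.val this

theorem card_sylow : Nat.card (S : Subgroup G) = 8 := by
  obtain ⟨e⟩ := h.iso
  rw [Nat.card_congr e.toEquiv, Nat.card_eq_fintype_card, QuaternionGroup.card]

theorem exists_inv_conj {P : Subgroup G} (hP : P = (S : Subgroup G)) {x : G} (hxP : x ∈ P)
    (hx : orderOf x = 4) : ∃ b ∈ P, b * x * b⁻¹ = x⁻¹ := by
  subst hP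
  obtain ⟨e⟩ := h.iso
  obtain ⟨⟨b, hb⟩, -⟩ := (quaternion_facts (e ⟨x, hxP⟩)).2 (fun hc => by
    rw [← map_pow, EmbeddingLike.map_eq_one_iff] at hc
    have := congrArg Subtype.val hc
    simp only [SubmonoidClass.coe_pow, Subgroup.coe_one, h.sq_eq hx] at this
    simpa [this] using h.order_u)
  obtain ⟨b, rfl⟩ := e.surjective b
  rw [← map_inv, ← map_mul, ← map_inv, ← map_mul] at hb
  exact ⟨b, b.2, congrArg Subtype.val (e.injective hb)⟩

/-- An element of odd order in `N(S)` that does not centralise `S`. -/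
theorem exists_triality : ∃ g : G, g ∈ Subgroup.normalizer ((S : Subgroup G) : Set G) ∧
    Odd (orderOf g) ∧ g ∉ Subgroup.centralizer ((S : Subgroup G) : Set G) := by
  haveI : Fact (Nat.Prime 2) := ⟨Nat.prime_two⟩
  by_contra hne
  push Not at hne
  refine h.notNilp (Transfer.hasNormalPComplement_of_local S fun Q hQ g hg hg2 => ?_)
  have hodd : Odd (orderOf g) := Nat.coprime_two_right.1 hg2
  rcases eq_or_lt_of_le hQ with rfl | hlt
  · exact hne g hg hodd
  have hQp : IsPGroup 2 Q := S.isPGroup'.to_le hQ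
  rw [Subgroup.mem_centralizer_iff]
  intro q hq
  have hgg : g ∈ Subgroup.zpowers (g ^ 2) := Isolated.mem_zpowers_sq hodd
  -- it suffices that `g ^ 2` commutes with `q`
  suffices h2 : Commute (g ^ 2) q by
    obtain ⟨i, hi⟩ := Subgroup.mem_zpowers_iff.1 hgg
    rw [← hi]
    exact ((h2.zpow_left i).symm).eq
  by_cases hq4 : orderOf q = 4
  · -- `Q = ⟨q⟩`
    have hcard : Nat.card Q ≤ 4 := by
      obtain ⟨j, hj⟩ := (S.isPGroup'.to_le hQ).exists_card_eq
      have hlt' : Nat.card Q < 8 := by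
        rw [← h.card_sylow]
        refine lt_of_le_of_ne (Subgroup.card_le_of_le hQ) fun he => hlt.ne ?_
        exact Subgroup.eq_of_le_of_card_ge hQ he.ge
      have : j ≤ 2 := by
        by_contra hj'
        have := Nat.pow_le_pow_right (n := 2) (by norm_num) (show 3 ≤ j by omega)
        omega
      rw [hj]
      exact le_trans (Nat.pow_le_pow_right (by norm_num) this) le_rfl
    have hQeq : Subgroup.zpowers q = Q :=
      Subgroup.eq_of_le_of_card_ge (Subgroup.zpowers_le.2 hq) (by rw [Nat.card_zpowers, hq4]; exact hcard)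
    have hmem : g * q * g⁻¹ ∈ Subgroup.zpowers q := by
      rw [hQeq]; exact (Subgroup.mem_normalizer_iff.1 hg q).1 hq
    have ho : orderOf (g * q * g⁻¹) = 4 := by rw [Small.orderOf_conj_eq, hq4]
    haveI := Fintype.ofFinite G
    rcases BrauerSuzuki.mem_zpowers_four hq4 hmem with e | e | e | e
    · rw [e, orderOf_one] at ho; omega
    · have hc : Commute g q := mul_inv_eq_iff_eq_mul.1 e
      exact hc.pow_left 2
    · rw [e, orderOf_pow, hq4] at ho; norm_num at ho
    · refine mul_inv_eq_iff_eq_mul.1 ?_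
      calc g ^ 2 * q * (g ^ 2)⁻¹ = g * (g * q * g⁻¹) * g⁻¹ := by rw [sq]; group
        _ = g * q⁻¹ * g⁻¹ := by rw [e]
        _ = (g * q * g⁻¹)⁻¹ := by group
        _ = q := by rw [e, inv_inv]
  · have hdvd : orderOf q ∣ 4 := orderOf_dvd_of_pow_eq_one (h.pow_four hQp hq)
    have hq12 : orderOf q = 1 ∨ orderOf q = 2 := by
      have h1 : orderOf q ∈ Nat.divisors 4 := Nat.mem_divisors.2 ⟨hdvd, by norm_num⟩
      rw [show Nat.divisors 4 = {1, 2, 4} by decide] at h1
      simp only [Finset.mem_insert, Finset.mem_singleton] at h1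
      omega
    rcases hq12 with e | e
    · rw [orderOf_eq_one_iff.1 e]; exact Commute.one_right _
    · rw [h.eq_u e]; exact h.comm _

/-- All elements of order 4 of `S` are conjugate. -/
theorem isConj_of_mem {v w : G} (hv : v ∈ (S : Subgroup G)) (hw : w ∈ (S : Subgroup G))
    (ov : orderOf v = 4) (ow : orderOf w = 4) : IsConj v w := by
  haveI : Fact (Nat.Prime 2) := ⟨Nat.prime_two⟩
  haveI := Fintype.ofFinite G
  obtain ⟨g, hg, hodd, hgc⟩ := h.exists_triality
  have hgg : g ∈ Subgroup.zpowers (g ^ 2) := Isolated.mem_zpowers_sq hodd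
  set c : G → G := fun q => g * q * g⁻¹ with hc
  have hcS : ∀ q ∈ (S : Subgroup G), c q ∈ (S : Subgroup G) :=
    fun q hq => (Subgroup.mem_normalizer_iff.1 hg q).1 hq
  have hco : ∀ q : G, orderOf (c q) = orderOf q := fun q => Small.orderOf_conj_eq g q
  have hcinv : ∀ q : G, c q⁻¹ = (c q)⁻¹ := fun q => by simp only [hc]; group
  have hfix : ∀ q : G, (c q = q ∨ c q = q⁻¹) → c q = q := by
    intro q hq
    have h2 : Commute (g ^ 2) q := by
      refine mul_inv_eq_iff_eq_mul.1 ?_
      have e1 : g ^ 2 * q * (g ^ 2)⁻¹ = c (c q) := by simp only [hc, sq]; group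
      rcases hq with e | e
      · rw [e1, e, e]
      · rw [e1, e, hcinv, e, inv_inv]
    obtain ⟨i, hi⟩ := Subgroup.mem_zpowers_iff.1 hgg
    have h1 : Commute g q := hi ▸ h2.zpow_left i
    show g * q * g⁻¹ = q
    rw [h1.eq, mul_inv_cancel_right]
  -- no element of order 4 is fixed
  have hnofix : ∀ q ∈ (S : Subgroup G), orderOf q = 4 → c q ≠ q := by
    intro q hq oq hfq
    refine hgc (Subgroup.mem_centralizer_iff.2 fun r hr => ?_)
    suffices hr' : c r = r from (mul_inv_eq_iff_eq_mul.1 hr').symm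
    by_contra hrne
    have or' : orderOf r = 4 := by
      have hdvd : orderOf r ∣ 4 := orderOf_dvd_of_pow_eq_one (h.pow_four S.isPGroup' hr)
      have h1 : orderOf r ∈ Nat.divisors 4 := Nat.mem_divisors.2 ⟨hdvd, by norm_num⟩
      rw [show Nat.divisors 4 = {1, 2, 4} by decide] at h1
      simp only [Finset.mem_insert, Finset.mem_singleton] at h1
      rcases h1 with e | e | e
      · exact absurd (by simp [hc, orderOf_eq_one_iff.1 e]) hrne
      · refine absurd ?_ hrne
        rw [h.eq_u e]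
        show g * u * g⁻¹ = u
        rw [(h.comm g).eq, mul_inv_cancel_right]
      · exact e
    have hne : r ≠ q ∧ r ≠ q⁻¹ :=
      ⟨fun e => hrne (e ▸ hfq), fun e => hrne (by rw [e, hcinv, hfq])⟩
    have hne1 : c r ≠ q ∧ c r ≠ q⁻¹ :=
      ⟨fun e => hne.1 (by simpa [hc] using e.trans hfq.symm),
        fun e => hne.2 (by
          have e2 : c r = c q⁻¹ := by rw [e, hcinv, hfq]
          simpa [hc] using e2)⟩
    have hne2 : c (c r) ≠ q ∧ c (c r) ≠ q⁻¹ :=
      ⟨fun e => hne1.1 (by simpa [hc] using e.trans hfq.symm),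
        fun e => hne1.2 (by
          have e2 : c (c r) = c q⁻¹ := by rw [e, hcinv, hfq]
          simpa [hc] using e2)⟩
    have hne3 : c r ≠ r ∧ c r ≠ r⁻¹ := ⟨hrne, fun e => hrne (hfix r (Or.inr e))⟩
    have hne4 : c (c r) ≠ c r ∧ c (c r) ≠ (c r)⁻¹ :=
      ⟨fun e => hrne (by simpa [hc] using e), fun e => hrne (by
        have e2 : c (c r) = c r⁻¹ := by rw [e, hcinv]
        exact hfix r (Or.inr (by simpa [hc] using e2)))⟩
    have hne5 : c (c r) ≠ r ∧ c (c r) ≠ r⁻¹ := by
      have key : ∀ z, z = r ∨ z = r⁻¹ → c (c r) ≠ z := by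
        intro z hz e
        have h2 : Commute (g ^ 4) r := by
          refine mul_inv_eq_iff_eq_mul.1 ?_
          have e1 : g ^ 4 * r * (g ^ 4)⁻¹ = c (c (c (c r))) := by
            simp only [hc, show (4 : ℕ) = 1 + 1 + 1 + 1 from rfl, pow_succ, pow_zero]; group
          rcases hz with hz | hz <;> rw [hz] at e
          · rw [e1, e, e]
          · rw [e1, e, hcinv, hcinv, e, inv_inv]
        obtain ⟨i, hi⟩ := Subgroup.mem_zpowers_iff.1 hgg
        have hodd2 : Odd (orderOf (g ^ 2)) := hodd.of_dvd_nat (orderOf_pow_dvd 2)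
        obtain ⟨j, hj⟩ := Subgroup.mem_zpowers_iff.1 (Isolated.mem_zpowers_sq hodd2)
        have h3 : Commute (g ^ 2) r := hj ▸ (by rw [← pow_mul]; exact h2.zpow_left j)
        have h1 : Commute g r := hi ▸ h3.zpow_left i
        exact hrne (by show g * r * g⁻¹ = r; rw [h1.eq, mul_inv_cancel_right])
      exact ⟨key r (Or.inl rfl), key r⁻¹ (Or.inr rfl)⟩
    exact BrauerSuzuki.four_pairs h.card_sylow hq hr (hcS r hr) (hcS _ (hcS r hr)) oq or'
      (by rw [hco, or']) (by rw [hco, hco, or']) hne hne1 hne3 hne2 hne5 hne4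
  obtain ⟨b, hb, hbv⟩ := h.exists_inv_conj rfl hv ov
  have c1 : IsConj v (c v) := isConj_iff.2 ⟨g, rfl⟩
  have c2 : IsConj v (c (c v)) := c1.trans (isConj_iff.2 ⟨g, rfl⟩)
  have cinv : ∀ z, IsConj v z → IsConj v z⁻¹ := fun z hz => by
    obtain ⟨a, ha⟩ := isConj_iff.1 hz
    refine (isConj_iff.2 ⟨b, hbv⟩ : IsConj v v⁻¹).trans (isConj_iff.2 ⟨a, ?_⟩)
    rw [← ha]; group
  by_contra hne
  have hwne : ∀ z, IsConj v z → w ≠ z ∧ w ≠ z⁻¹ := fun z hz =>
    ⟨fun e => hne (e ▸ hz), fun e => hne (e ▸ cinv z hz)⟩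
  have d1 : c v ≠ v ∧ c v ≠ v⁻¹ :=
    ⟨hnofix v hv ov, fun e => hnofix v hv ov (hfix v (Or.inr e))⟩
  have d3 : c (c v) ≠ c v ∧ c (c v) ≠ (c v)⁻¹ :=
    ⟨fun e => d1.1 (by simpa [hc] using e), fun e => d1.2 (by
      have e2 : c (c v) = c v⁻¹ := by rw [e, hcinv]
      simpa [hc] using e2)⟩
  have d2 : c (c v) ≠ v ∧ c (c v) ≠ v⁻¹ := by
    have key : ∀ z, z = v ∨ z = v⁻¹ → c (c v) ≠ z := by
      intro z hz e
      have h2 : Commute (g ^ 4) v := by
        refine mul_inv_eq_iff_eq_mul.1 ?_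
        have e1 : g ^ 4 * v * (g ^ 4)⁻¹ = c (c (c (c v))) := by
          simp only [hc, show (4 : ℕ) = 1 + 1 + 1 + 1 from rfl, pow_succ, pow_zero]; group
        rcases hz with hz | hz <;> rw [hz] at e
        · rw [e1, e, e]
        · rw [e1, e, hcinv, hcinv, e, inv_inv]
      obtain ⟨i, hi⟩ := Subgroup.mem_zpowers_iff.1 hgg
      have hodd2 : Odd (orderOf (g ^ 2)) := hodd.of_dvd_nat (orderOf_pow_dvd 2)
      obtain ⟨j, hj⟩ := Subgroup.mem_zpowers_iff.1 (Isolated.mem_zpowers_sq hodd2)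
      have h3 : Commute (g ^ 2) v := hj ▸ (by rw [← pow_mul]; exact h2.zpow_left j)
      have h1 : Commute g v := hi ▸ h3.zpow_left i
      exact d1.1 (by show g * v * g⁻¹ = v; rw [h1.eq, mul_inv_cancel_right])
    exact ⟨key v (Or.inl rfl), key v⁻¹ (Or.inr rfl)⟩
  exact BrauerSuzuki.four_pairs h.card_sylow hv (hcS v hv) (hcS _ (hcS v hv)) hw ov
    (by rw [hco, ov]) (by rw [hco, hco, ov]) ow d1 d2 d3 (hwne v (IsConj.refl v)) (hwne _ c1)
    (hwne _ c2)

/-- All elements of order 4 are conjugate. -/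
theorem isConj_four {v w : G} (ov : orderOf v = 4) (ow : orderOf w = 4) : IsConj v w := by
  haveI : Fact (Nat.Prime 2) := ⟨Nat.prime_two⟩
  have key : ∀ x : G, orderOf x = 4 → ∃ x' ∈ (S : Subgroup G), orderOf x' = 4 ∧ IsConj x x' := by
    intro x hx
    have hp : IsPGroup 2 (Subgroup.zpowers x) :=
      IsPGroup.of_card (n := 2) (by rw [Nat.card_zpowers, hx]; rfl)
    obtain ⟨T, hT⟩ := hp.exists_le_sylow
    obtain ⟨g, hg⟩ := MulAction.exists_smul_eq G T S
    refine ⟨g * x * g⁻¹, ?_, by rw [Small.orderOf_conj_eq, hx], isConj_iff.2 ⟨g, rfl⟩⟩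
    rw [← hg, Sylow.coe_subgroup_smul]
    exact ⟨x, hT (Subgroup.mem_zpowers x), rfl⟩
  obtain ⟨v', hv', ov', cv⟩ := key v ov
  obtain ⟨w', hw', ow', cw⟩ := key w ow
  exact (cv.trans (h.isConj_of_mem hv' hw' ov' ow')).trans cw.symm

theorem exists_four : ∃ x : G, orderOf x = 4 := by
  obtain ⟨e⟩ := h.iso
  refine ⟨(e.symm (QuaternionGroup.a 1) : (S : Subgroup G)), ?_⟩
  rw [Subgroup.orderOf_coe, e.symm.orderOf_eq, QuaternionGroup.orderOf_a_one]

/-- The normal 2-complement of the centralizer of an element of order 4. -/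
theorem exists_odd_normal {x : G} (hx : orderOf x = 4) :
    ∃ K : Subgroup (Subgroup.centralizer ({x} : Set G)), K.Normal ∧
      (∀ k, k ∈ K ↔ Odd (orderOf k)) ∧
      Nat.card K * 4 = Nat.card (Subgroup.centralizer ({x} : Set G)) := by
  haveI : Fact (Nat.Prime 2) := ⟨Nat.prime_two⟩
  haveI := Fintype.ofFinite G
  obtain ⟨P⟩ : Nonempty (Sylow 2 (Subgroup.centralizer ({x} : Set G))) := inferInstance
  obtain ⟨hcyc, hxP⟩ := BrauerSuzuki.isCyclic_sylow_cent h.noFour hx P
  haveI := hcyc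
  have hcard : Nat.card (P : Subgroup (Subgroup.centralizer ({x} : Set G))) = 4 := by
    obtain ⟨q, hq⟩ := IsCyclic.exists_ofOrder_eq_natCard
      (α := (P : Subgroup (Subgroup.centralizer ({x} : Set G))))
    refine Nat.dvd_antisymm (hq ▸ orderOf_dvd_of_pow_eq_one ?_) ?_
    · refine Subtype.ext (Subtype.ext ?_)
      simp only [SubmonoidClass.coe_pow, Subgroup.coe_one]
      exact h.pow_four (P.isPGroup'.map (Subgroup.subtype _)) ⟨_, q.2, rfl⟩
    · have := Subgroup.orderOf_dvd_natCard _ hxP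
      rwa [← Subgroup.orderOf_coe, hx] at this
  have heven : 2 ∣ Nat.card (Subgroup.centralizer ({x} : Set G)) :=
    (by norm_num : 2 ∣ 4).trans (hcard ▸ Subgroup.card_subgroup_dvd_card _)
  obtain ⟨φ, hφ⟩ : ∃ φ : Subgroup.centralizer ({x} : Set G) →*
      (P : Subgroup (Subgroup.centralizer ({x} : Set G))), Subgroup.IsComplement' φ.ker P :=
    ⟨_, IsCyclic.isComplement' ((Nat.minFac_eq_two_iff _).2 heven) hcyc⟩
  have hodd : Odd (Nat.card φ.ker) := by
    rw [← hφ.index_eq_card]
    exact Nat.not_even_iff_odd.1 fun he => P.not_dvd_index (even_iff_two_dvd.1 he)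
  refine ⟨φ.ker, inferInstance, fun k => ⟨fun hk => hodd.of_dvd_nat
    (Subgroup.orderOf_dvd_natCard _ hk), fun hk => ?_⟩, ?_⟩
  · rw [MonoidHom.mem_ker, ← orderOf_eq_one_iff]
    refine Nat.eq_one_of_dvd_coprimes ((Nat.coprime_two_right.2 hk).pow_right 2)
      (orderOf_map_dvd φ k) ?_
    exact orderOf_dvd_natCard (φ k) |>.trans (by rw [hcard])
  · rw [← hcard]; exact hφ.card_mul

end Setting

/-- The 2-part of an element whose order is 4 times an odd number. -/
noncomputable def twoPart (g : G) : G := g ^ ((orderOf g / 4) * (orderOf g / 4))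

namespace Setting

variable {S : Sylow 2 G} {u : G} (h : Setting S u)
include h

theorem two_pow_bound {g : G} : ¬ 8 ∣ orderOf g := by
  haveI : Fact (Nat.Prime 2) := ⟨Nat.prime_two⟩
  intro h8
  set x := g ^ (orderOf g / 8)
  have hx : orderOf x = 8 := by
    rw [orderOf_pow_of_dvd (Nat.ne_of_gt (Nat.div_pos (Nat.le_of_dvd (orderOf_pos g) h8)
      (by norm_num))) (Nat.div_dvd_of_dvd h8), Nat.div_div_self h8 (orderOf_pos g).ne']
  have hp : IsPGroup 2 (Subgroup.zpowers x) :=
    IsPGroup.of_card (n := 3) (by rw [Nat.card_zpowers, hx]; rfl)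
  have := orderOf_dvd_of_pow_eq_one (h.pow_four hp (Subgroup.mem_zpowers x))
  rw [hx] at this
  norm_num at this

theorem twoPart_spec {g : G} (hg : 4 ∣ orderOf g) :
    orderOf (twoPart g) = 4 ∧ Commute (twoPart g) ((twoPart g)⁻¹ * g) ∧
      Odd (orderOf ((twoPart g)⁻¹ * g)) := by
  obtain ⟨k, hk⟩ := hg
  have hk0 : 0 < k := by
    rcases Nat.eq_zero_or_pos k with rfl | h0
    · simp [(orderOf_pos g).ne'] at hk
    · exact h0
  have hkodd : Odd k := Nat.not_even_iff_odd.1 fun he => h.two_pow_bound (g := g) (by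
    obtain ⟨j, rfl⟩ := even_iff_two_dvd.1 he
    exact ⟨j, by rw [hk]; ring⟩)
  have hdef : twoPart g = g ^ (k * k) := by
    rw [twoPart, hk, Nat.mul_div_cancel_left _ (by norm_num : 0 < 4)]
  refine ⟨?_, ?_, ?_⟩
  · rw [hdef, orderOf_pow, hk, show Nat.gcd (4 * k) (k * k) = k by
      rw [Nat.gcd_mul_right, Nat.Coprime.gcd_eq_one (Nat.Coprime.pow_left 2
        (Nat.coprime_two_left.2 hkodd) : Nat.Coprime (2 ^ 2) k), one_mul],
      Nat.mul_div_cancel _ hk0]
  · rw [hdef]
    exact ((Commute.refl _).inv_right).mul_right ((Commute.refl g).pow_left _)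
  · refine hkodd.of_dvd_nat (orderOf_dvd_of_pow_eq_one ?_)
    rw [hdef, (((Commute.refl g).pow_left _).inv_left).mul_pow, inv_pow, ← pow_mul,
      inv_mul_eq_one]
    refine (pow_eq_pow_iff_modEq).2 ?_
    rw [hk]
    have h8 : k * k % 4 = 1 := by
      obtain ⟨j, rfl⟩ := hkodd
      rw [show (2 * j + 1) * (2 * j + 1) = 1 + 4 * (j * j + j) by ring]
      simp
    have h1 : k * k ≡ 1 [MOD 4] := h8
    exact h1.mul_right' k |>.trans (by rw [one_mul])

theorem orderOf_mul_four {x y : G} (hx : orderOf x = 4) (hy : Odd (orderOf y))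
    (hc : Commute x y) : orderOf (x * y) = 4 * orderOf y ∧ twoPart (x * y) = x := by
  have hcop : Nat.Coprime (orderOf x) (orderOf y) := by
    rw [hx]; exact (Nat.coprime_two_left.2 hy).pow_left 2
  have ho : orderOf (x * y) = 4 * orderOf y := by
    rw [hc.orderOf_mul_eq_mul_orderOf_of_coprime hcop, hx]
  refine ⟨ho, ?_⟩
  rw [twoPart, ho, Nat.mul_div_cancel_left _ (by norm_num : 0 < 4), hc.mul_pow,
    pow_mul y, pow_orderOf_eq_one, one_pow, mul_one, ← pow_mod_orderOf, hx]
  obtain ⟨j, hj⟩ := hy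
  rw [hj, show (2 * j + 1) * (2 * j + 1) = 1 + 4 * (j * j + j) by ring]
  simp

theorem odd_mul_u {g : G} (hg : ¬ Odd (orderOf g)) (h4 : ¬ 4 ∣ orderOf g) :
    Odd (orderOf (g * u)) := by
  have he : Even (orderOf g) := Nat.not_odd_iff_even.1 hg
  obtain ⟨k, hk⟩ := even_iff_two_dvd.1 he
  have hkodd : Odd k := Nat.not_even_iff_odd.1 fun hke => h4 (by
    obtain ⟨j, rfl⟩ := even_iff_two_dvd.1 hke
    exact ⟨j, by rw [hk]; ring⟩)
  have hgk : g ^ k = u := h.eq_u (by
    rw [orderOf_pow, hk, Nat.gcd_eq_right (Dvd.intro_left 2 rfl),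
      Nat.mul_div_cancel _ hkodd.pos])
  refine hkodd.of_dvd_nat (orderOf_dvd_of_pow_eq_one ?_)
  obtain ⟨j, hj⟩ := hkodd
  rw [(h.comm g).mul_pow, hgk, hj, pow_succ, pow_mul, sq, h.u_sq, one_pow, one_mul, h.u_sq]

theorem mul_u_spec {g : G} (hg : Odd (orderOf g)) :
    ¬ Odd (orderOf (g * u)) ∧ ¬ 4 ∣ orderOf (g * u) := by
  have ho : orderOf (g * u) = orderOf g * 2 := by
    rw [(h.comm g).orderOf_mul_eq_mul_orderOf_of_coprime
      (by rw [h.order_u]; exact Nat.coprime_two_right.2 hg), h.order_u]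
  obtain ⟨j, hj⟩ := hg
  rw [ho, hj]
  refine ⟨fun hc => absurd hc (Nat.not_odd_iff_even.2 ⟨2 * j + 1, by ring⟩), ?_⟩
  omega

end Setting

section Count

variable [Fintype G] {S : Sylow 2 G} {u : G} (h : Setting S u)
include h

/-- Splitting a sum over the three parts of the group. -/
theorem Setting.sum_split (F : G → ℂ) :
    ∑ g, F g = (∑ g ∈ Finset.univ.filter (fun g => Odd (orderOf g)), F g) +
      (∑ g ∈ Finset.univ.filter (fun g => Odd (orderOf g)), F (g * u)) +
      ∑ g ∈ Finset.univ.filter (fun g => 4 ∣ orderOf g), F g := by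
  classical
  rw [← Finset.sum_filter_add_sum_filter_not Finset.univ (fun g => Odd (orderOf g)), add_assoc]
  congr 1
  rw [← Finset.sum_filter_add_sum_filter_not
    (Finset.univ.filter fun g => ¬ Odd (orderOf g)) (fun g => 4 ∣ orderOf g), add_comm]
  congr 1
  · rw [Finset.filter_filter]
    refine Finset.sum_bij' (fun g _ => g * u) (fun g _ => g * u) ?_ ?_ ?_ ?_ ?_
    · intro g hg
      simp only [Finset.mem_filter, Finset.mem_univ, true_and] at hg ⊢
      exact h.odd_mul_u hg.1 hg.2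
    · intro g hg
      simp only [Finset.mem_filter, Finset.mem_univ, true_and] at hg ⊢
      exact h.mul_u_spec hg
    · intro g _; rw [mul_assoc, h.u_sq, mul_one]
    · intro g _; rw [mul_assoc, h.u_sq, mul_one]
    · intro g _; rw [mul_assoc, h.u_sq, mul_one]
  · refine Finset.sum_congr ?_ fun _ _ => rfl
    ext g
    simp only [Finset.mem_filter, Finset.mem_univ, true_and, and_iff_right_iff_imp]
    intro h4 hodd
    exact absurd (hodd.of_dvd_nat h4) (by decide)

theorem Setting.card_section :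
    4 * (Finset.univ.filter fun g : G => 4 ∣ orderOf g).card = Nat.card G := by
  classical
  obtain ⟨x₀, hx₀⟩ := h.exists_four
  set C4 := Finset.univ.filter fun x : G => orderOf x = 4 with hC4
  rw [Finset.card_eq_sum_card_fiberwise (f := twoPart) (t := C4) (fun g hg => by
    simp only [Finset.coe_filter, Finset.mem_univ, true_and, Set.mem_setOf_eq] at hg
    simp [hC4, (h.twoPart_spec hg).1]), Finset.mul_sum]
  have hclass : C4.card = (Subgroup.centralizer ({x₀} : Set G)).index := by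
    rw [← Blocks.natCard_class, Nat.card_eq_fintype_card, Fintype.card_subtype]
    refine congrArg Finset.card (Finset.ext fun g => ?_)
    simp only [hC4, Finset.mem_filter, Finset.mem_univ, true_and,
      ConjClasses.mk_eq_mk_iff_isConj]
    refine ⟨fun hg => h.isConj_four hg hx₀, fun hg => ?_⟩
    obtain ⟨c, rfl⟩ := isConj_iff.1 hg.symm
    rw [Small.orderOf_conj_eq, hx₀]
  have hfib : ∀ x ∈ C4, 4 * ((Finset.univ.filter fun g : G => 4 ∣ orderOf g).filter
      fun g => twoPart g = x).card = Nat.card (Subgroup.centralizer ({x₀} : Set G)) := by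
    intro x hx
    simp only [hC4, Finset.mem_filter, Finset.mem_univ, true_and] at hx
    obtain ⟨K, -, hK, hKc⟩ := h.exists_odd_normal hx
    have hce : Nat.card (Subgroup.centralizer ({x₀} : Set G)) =
        Nat.card (Subgroup.centralizer ({x} : Set G)) := by
      obtain ⟨c, rfl⟩ := isConj_iff.1 (h.isConj_four hx₀ hx)
      refine Nat.card_congr ((MulAut.conj c).toEquiv.subtypeEquiv fun a => ?_)
      simp only [Subgroup.mem_centralizer_singleton_iff, MulEquiv.toEquiv_eq_coe,
        MulEquiv.coe_toEquiv, MulAut.conj_apply]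
      constructor
      · intro e
        calc c * a * c⁻¹ * (c * x₀ * c⁻¹) = c * (a * x₀) * c⁻¹ := by group
          _ = _ := by rw [e]; group
      · intro e
        calc a * x₀ = c⁻¹ * (c * a * c⁻¹ * (c * x₀ * c⁻¹)) * c := by group
          _ = _ := by rw [e]; group
    rw [hce, ← hKc, mul_comm, ← Nat.card_eq_finsetCard]
    congr 1
    refine Nat.card_congr ⟨fun g => ⟨⟨x⁻¹ * g.1, ?_⟩, ?_⟩, fun k => ⟨x * (k.1 : G), ?_⟩,
      fun g => Subtype.ext (mul_inv_cancel_left x g.1),
      fun k => Subtype.ext (Subtype.ext (inv_mul_cancel_left x (k.1 : G)))⟩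
    · obtain ⟨g, hg⟩ := g
      simp only [Finset.mem_filter, Finset.mem_univ, true_and] at hg
      have := (h.twoPart_spec hg.1).2.1
      rw [hg.2] at this
      exact Subgroup.mem_centralizer_singleton_iff.2 this.symm.eq
    · obtain ⟨g, hg⟩ := g
      simp only [Finset.mem_filter, Finset.mem_univ, true_and] at hg
      have := (h.twoPart_spec hg.1).2.2
      rw [hg.2] at this
      exact (hK _).2 (by rwa [← Subgroup.orderOf_coe])
    · have hk : Odd (orderOf (k.1 : G)) := by
        rw [Subgroup.orderOf_coe]; exact (hK _).1 k.2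
      have hcomm : Commute x (k.1 : G) := (Subgroup.mem_centralizer_singleton_iff.1 k.1.2).symm
      simp only [Finset.mem_filter, Finset.mem_univ, true_and]
      exact ⟨(h.orderOf_mul_four hx hk hcomm).1 ▸ Dvd.intro _ rfl,
        (h.orderOf_mul_four hx hk hcomm).2⟩
  rw [Finset.sum_congr rfl hfib, Finset.sum_const, hclass, smul_eq_mul, mul_comm,
    Subgroup.card_mul_index]

theorem Setting.odd_card_regular :
    Odd (Finset.univ.filter fun g : G => Odd (orderOf g)).card := by
  haveI : Fact (Nat.Prime 2) := ⟨Nat.prime_two⟩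
  have hsplit := h.sum_split (fun _ => (1 : ℂ))
  simp only [Finset.sum_const, Finset.card_univ, nsmul_eq_mul, mul_one] at hsplit
  have hnat : Fintype.card G = (Finset.univ.filter fun g : G => Odd (orderOf g)).card +
      (Finset.univ.filter fun g : G => Odd (orderOf g)).card +
      (Finset.univ.filter fun g : G => 4 ∣ orderOf g).card := by exact_mod_cast hsplit
  have hX := h.card_section
  obtain ⟨m, hm⟩ : 8 ∣ Nat.card G := h.card_sylow ▸ Subgroup.card_subgroup_dvd_card _
  have hmodd : ¬ 2 ∣ m := fun hd => S.not_dvd_index (by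
    have h2 := Subgroup.card_mul_index (S : Subgroup G)
    rw [h.card_sylow, hm] at h2
    rwa [Nat.eq_of_mul_eq_mul_left (by norm_num) h2])
  rw [Nat.card_eq_fintype_card] at hX hm
  rw [Nat.odd_iff]
  omega

end Count

end CfsgLib.QuaternionBlock
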